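import Mathlib.RingTheory.Flat.Basic
import Mathlib.RingTheory.Ideal.Prime
import Mathlib.RingTheory.TensorProduct.Maps

/-!
# Unit cocycles over flat algebras: a descended element outside a given prime
-/

open TensorProduct

namespace Groth.Agent.BrauerXPic

variable (A B : Type*) [CommRing A] [CommRing B] [Algebra A B]

/-- `x ⊗ y ↦ x ⊗ y ⊗ 1` -/
noncomputable def q12 : B ⊗[A] B →ₐ[A] B ⊗[A] (B ⊗[A] B) :=
  Algebra.TensorProduct.map (AlgHom.id A B) Algebra.TensorProduct.includeLeft

/-- `x ⊗ y ↦ x ⊗ 1 ⊗ y` -/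
noncomputable def q13 : B ⊗[A] B →ₐ[A] B ⊗[A] (B ⊗[A] B) :=
  Algebra.TensorProduct.map (AlgHom.id A B) Algebra.TensorProduct.includeRight

/-- `x ⊗ y ↦ 1 ⊗ x ⊗ y` -/
noncomputable def q23 : B ⊗[A] B →ₐ[A] B ⊗[A] (B ⊗[A] B) :=
  Algebra.TensorProduct.includeRight

/-- `x ⊗ (y ⊗ z) ↦ x y z` -/
noncomputable def mul3 : B ⊗[A] (B ⊗[A] B) →ₐ[A] B :=
  (Algebra.TensorProduct.lmul' A).comp
    (Algebra.TensorProduct.map (AlgHom.id A B) (Algebra.TensorProduct.lmul' A))

variable {A B}

theorem mul3_q (z : B ⊗[A] B) :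
    mul3 A B (q12 A B z) = Algebra.TensorProduct.lmul' A z ∧
      mul3 A B (q13 A B z) = Algebra.TensorProduct.lmul' A z ∧
      mul3 A B (q23 A B z) = Algebra.TensorProduct.lmul' A z := by
  induction z using TensorProduct.induction_on with
  | zero => simp
  | tmul x y => simp [mul3, q12, q13, q23]
  | add x y hx hy => simp [map_add, hx.1, hx.2.1, hx.2.2, hy.1, hy.2.1, hy.2.2]

theorem exists_fixed_notMem [Module.Flat A B] (g : (B ⊗[A] B)ˣ)
    (hg : q13 A B (g : B ⊗[A] B) = q12 A B g * q23 A B g) (q : Ideal B) (hq : q.IsPrime) :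
    ∃ m ∉ q, (1 : B) ⊗ₜ[A] m = (g : B ⊗[A] B) * (m ⊗ₜ[A] 1) := by
  let D : B →ₗ[A] B ⊗[A] B :=
    (Algebra.TensorProduct.includeRight : B →ₐ[A] B ⊗[A] B).toLinearMap -
      (LinearMap.mulLeft A (g : B ⊗[A] B)).comp (Algebra.TensorProduct.includeLeft : B →ₐ[A] B ⊗[A] B).toLinearMap
  let gi : B ⊗[A] B := ((g⁻¹ : (B ⊗[A] B)ˣ) : B ⊗[A] B)
  have h1 : Algebra.TensorProduct.lmul' A (g : B ⊗[A] B) = 1 := by
    have h := congrArg (mul3 A B) hg
    rw [map_mul, (mul3_q _).1, (mul3_q _).2.1, (mul3_q _).2.2] at h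
    exact (g.isUnit.map (Algebra.TensorProduct.lmul' A)).mul_eq_left.1 h.symm
  have hgi : Algebra.TensorProduct.lmul' A gi = 1 := by
    have h := congrArg (Algebra.TensorProduct.lmul' A) g.inv_mul
    rwa [map_mul, h1, mul_one, map_one] at h
  have hD : ∀ w : B ⊗[A] B, TensorProduct.assoc A B B B (D.rTensor B w) =
      q23 A B w - q12 A B g * q13 A B w := fun w => by
    induction w using TensorProduct.induction_on with
    | zero => simp
    | tmul x y =>
      have key : ∀ u : B ⊗[A] B,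
          TensorProduct.assoc A B B B ((u * (x ⊗ₜ[A] (1 : B))) ⊗ₜ[A] y) = q12 A B u * q13 A B (x ⊗ₜ[A] y) := fun u => by
        induction u using TensorProduct.induction_on with
        | zero => simp
        | tmul a b => simp [q12, q13]
        | add a b ha hb => rw [add_mul, TensorProduct.add_tmul, map_add, map_add, add_mul, ha, hb]
      simp only [LinearMap.rTensor_tmul, D, LinearMap.sub_apply, LinearMap.comp_apply, AlgHom.toLinearMap_apply,
        LinearMap.mulLeft_apply, Algebra.TensorProduct.includeRight_apply, Algebra.TensorProduct.includeLeft_apply,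
        TensorProduct.sub_tmul, map_sub, key]
      simp [q23]
    | add a b ha hb => rw [map_add, map_add, ha, hb, map_add, map_add, mul_add, add_sub_add_comm]
  have hgi0 : D.rTensor B gi = 0 := by
    apply (TensorProduct.assoc A B B B).injective
    rw [hD, map_zero, sub_eq_zero]
    have e : ∀ p : B ⊗[A] B →ₐ[A] B ⊗[A] (B ⊗[A] B), p gi * p g = 1 := fun p => by
      rw [← map_mul, g.inv_mul, map_one]
    refine (g.isUnit.map (q23 A B)).mul_right_cancel ?_
    rw [e, mul_assoc, mul_comm (q13 A B gi), ← mul_assoc, ← hg, mul_comm, e]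
  obtain ⟨w, hw⟩ := (Module.Flat.rTensor_exact (R := A) B (LinearMap.exact_subtype_ker_map D) gi).1 hgi0
  by_contra hcon
  push Not at hcon
  refine hq.ne_top ((Ideal.eq_top_iff_one q).2 ?_)
  rw [← hgi, ← hw]
  clear hw
  induction w using TensorProduct.induction_on with
  | zero => simp
  | tmul m c =>
    simp only [LinearMap.rTensor_tmul, Submodule.subtype_apply, Algebra.TensorProduct.lmul'_apply_tmul]
    refine q.mul_mem_right _ ?_
    by_contra hm
    exact hcon _ hm (sub_eq_zero.1 m.2)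
  | add a b ha hb => rw [map_add, map_add]; exact add_mem ha hb

end Groth.Agent.BrauerXPic
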