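import Groth.Agent.BrauerXPic.Open
import Groth.Agent.BrauerXPic.DescAlg
import Groth.Agent.EtMVLib.ExtTools
import Groth.Agent.EtFound.PushOutside
import Mathlib.AlgebraicGeometry.Morphisms.Etale
import Mathlib.RingTheory.Spectrum.Prime.Chevalley
import Mathlib.RingTheory.Etale.Basic

/-!
# Zariski local lifts for quotients by `G_m`: descent of units
-/

universe u

open CategoryTheory CategoryTheory.Limits AlgebraicGeometry Opposite TensorProduct

namespace Groth.Agent.BrauerXPic

open Groth.Agent.EtFound Groth.Agent.BrauerXCurve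

set_option backward.isDefEq.respectTransparency.types false

variable {X : Scheme.{u}}

/-- sections of the first term as kernel -/
theorem sect_exact {S : ShortComplex (EtCoh.Ab X)} (hS : S.ShortExact) (T : X.Etale) :
    Function.Injective (S.f.hom.app (op T)) ∧
      ∀ t : EtCoh.sect S.X₂ T, S.g.hom.app (op T) t = 0 → ∃ b : EtCoh.sect S.X₁ T, S.f.hom.app (op T) b = t := by
  let secF := (sheafSections X.smallEtaleTopology AddCommGrpCat.{u + 1}).obj (op T)
  haveI : PreservesFiniteLimits secF :=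
    haveI : PreservesFiniteLimits (sheafToPresheaf X.smallEtaleTopology AddCommGrpCat.{u + 1}) := inferInstance
    comp_preservesFiniteLimits (sheafToPresheaf X.smallEtaleTopology AddCommGrpCat.{u + 1})
      ((evaluation _ _).obj (op T))
  haveI : secF.Additive := ⟨fun {F G f g} => rfl⟩
  have hex : (S.map secF).Exact ∧ Mono (S.map secF).f :=
    ((Functor.preservesFiniteLimits_tfae secF).out 3 0 rfl rfl).1 inferInstance S hS
  exact ⟨(AddCommGrpCat.mono_iff_injective _).1 hex.2, fun t ht => (ShortComplex.ab_exact_iff _).1 hex.1 t ht⟩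

variable {A : Type u} [CommRing A] (h : Spec (CommRingCat.of A) ⟶ X) [IsOpenImmersion h]

theorem etale_structMap (C : Type u) [CommRing C] [Algebra A C] [Algebra.Etale A C] :
    AlgebraicGeometry.Etale (Spec.map (CommRingCat.ofHom (algebraMap A C)) ≫ h) := by
  haveI : AlgebraicGeometry.Etale (Spec.map (CommRingCat.ofHom (algebraMap A C))) :=
    (HasRingHomProperty.Spec_iff (P := @AlgebraicGeometry.Etale)).2 (RingHom.etale_algebraMap.2 ‹_›)
  infer_instance

/-- the object `Spec C → Spec A → X` -/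
noncomputable def aObj (C : Type u) [CommRing C] [Algebra A C] [Algebra.Etale A C] : X.Etale :=
  haveI := etale_structMap h C
  Scheme.Etale.mk (Spec.map (CommRingCat.ofHom (algebraMap A C)) ≫ h)

variable {C C' : Type u} [CommRing C] [Algebra A C] [Algebra.Etale A C] [CommRing C'] [Algebra A C'] [Algebra.Etale A C']

/-- the morphism given by an algebra map -/
noncomputable def aMap (f : C →ₐ[A] C') : aObj h C' ⟶ aObj h C :=
  MorphismProperty.Over.homMk (Spec.map (CommRingCat.ofHom f.toRingHom)) (by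
    show Spec.map (CommRingCat.ofHom f.toRingHom) ≫ Spec.map (CommRingCat.ofHom (algebraMap A C)) ≫ h = _
    rw [← Category.assoc, ← Spec.map_comp, ← CommRingCat.ofHom_comp,
      show f.toRingHom.comp (algebraMap A C) = algebraMap A C' from f.comp_algebraMap]
    rfl)

theorem aMap_comp {C'' : Type u} [CommRing C''] [Algebra A C''] [Algebra.Etale A C'']
    (f : C →ₐ[A] C') (g : C' →ₐ[A] C'') : aMap h g ≫ aMap h f = aMap h (g.comp f) :=
  MorphismProperty.Over.Hom.ext ((Spec.map_comp _ _).symm.trans rfl)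

/-- functions pulled back along a morphism to `Spec C` -/
noncomputable def pb {T : X.Etale} (a : T ⟶ aObj h C) : C →+* Γ(T.left, ⊤) :=
  (a.left : T.left ⟶ Spec (CommRingCat.of C)).appTop.hom.comp (Scheme.ΓSpecIso (CommRingCat.of C)).inv.hom

theorem pb_comp {T : X.Etale} (b : T ⟶ aObj h C') (f : C →ₐ[A] C') (x : C) :
    pb h (b ≫ aMap h f) x = pb h b (f x) := by
  show ((b.left : T.left ⟶ Spec (CommRingCat.of C')) ≫ Spec.map (CommRingCat.ofHom f.toRingHom)).appTop.hom _ =
    (b.left : T.left ⟶ Spec (CommRingCat.of C')).appTop.hom _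
  rw [Scheme.Hom.comp_appTop]
  exact congrArg (fun z => (b.left : T.left ⟶ Spec (CommRingCat.of C')).appTop.hom z)
    (congrArg (fun m => m.hom x) (Scheme.ΓSpecIso_inv_naturality (CommRingCat.ofHom f.toRingHom))).symm

/-- the unit of `C` given by a section of `G_m` -/
noncomputable def aVal (s : EtCoh.sect (EtCoh.Gm X) (aObj h C)) : Cˣ :=
  Units.map (Scheme.ΓSpecIso (CommRingCat.of C)).hom.hom.toMonoidHom
    (gmFun s : Γ(Spec (CommRingCat.of C), ⊤)ˣ)

/-- the section of `G_m` given by a unit of `C` -/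
noncomputable def aSect (a : Cˣ) : EtCoh.sect (EtCoh.Gm X) (aObj h C) :=
  gmSect (V := aObj h C) (Units.map (Scheme.ΓSpecIso (CommRingCat.of C)).inv.hom.toMonoidHom a)

theorem aVal_aSect (a : Cˣ) : aVal h (aSect h a) = a :=
  Units.ext ((Scheme.ΓSpecIso (CommRingCat.of C)).commRingCatIsoToRingEquiv.apply_symm_apply (a : C))

/-- a section of `G_m` as a unit of global functions -/
noncomputable def gmS (s : EtCoh.sect (EtCoh.Gm X) (aObj h C)) : Γ(Spec (CommRingCat.of C), ⊤)ˣ :=
  gmFun s

theorem gmFun_map_aVal {T : X.Etale} (a : T ⟶ aObj h C) (s : EtCoh.sect (EtCoh.Gm X) (aObj h C)) :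
    ((gmFun ((EtCoh.Gm X).obj.map a.op s) : Γ(T.left, ⊤)ˣ) : Γ(T.left, ⊤)) = pb h a (aVal h s : C) :=
  (congrArg (fun z => (a.left : T.left ⟶ Spec (CommRingCat.of C)).appTop.hom z)
    ((Scheme.ΓSpecIso (CommRingCat.of C)).commRingCatIsoToRingEquiv.symm_apply_apply
      ((gmS h s : Γ(Spec (CommRingCat.of C), ⊤)ˣ) : Γ(Spec (CommRingCat.of C), ⊤)))).symm

theorem aVal_map (f : C →ₐ[A] C') (s : EtCoh.sect (EtCoh.Gm X) (aObj h C)) :
    (aVal h ((EtCoh.Gm X).obj.map (aMap h f).op s) : C') = f (aVal h s : C) :=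
  congrArg (fun m => m.hom ((gmS h s : Γ(Spec (CommRingCat.of C), ⊤)ˣ) : Γ(Spec (CommRingCat.of C), ⊤)))
    (Scheme.ΓSpecIso_naturality (CommRingCat.ofHom f.toRingHom))

theorem aVal_add (s t : EtCoh.sect (EtCoh.Gm X) (aObj h C)) : aVal h (s + t) = aVal h s * aVal h t :=
  map_mul (Units.map (Scheme.ΓSpecIso (CommRingCat.of C)).hom.hom.toMonoidHom)
    (gmFun s : Γ(Spec (CommRingCat.of C), ⊤)ˣ) (gmFun t)

set_option maxHeartbeats 1000000 in
/-- a lift over an étale `A`-algebra descends Zariski locally -/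
theorem exists_lift_near {S : ShortComplex (EtCoh.Ab X)} (hS : S.ShortExact) (e : S.X₁ = EtCoh.Gm X)
    {B : Type u} [CommRing B] [Algebra A B] [Algebra.Etale A B]
    (s : EtCoh.sect S.X₃ (EtCoh.top X)) (t : EtCoh.sect S.X₂ (aObj h B))
    (ht : S.g.hom.app (op (aObj h B)) t = S.X₃.obj.map (toTop (aObj h B)).op s) (q : PrimeSpectrum B) :
    ∃ O : X.Opens, (Spec.map (CommRingCat.ofHom (algebraMap A B)) ≫ h) q ∈ O ∧
      ∃ w : EtCoh.sect S.X₂ (EtDesc.ofOpen O),
        S.g.hom.app (op (EtDesc.ofOpen O)) w = S.X₃.obj.map (toTop (EtDesc.ofOpen O)).op s := by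
  cases S with
  | @mk X₁ X₂ X₃ φ ψ z =>
  dsimp only at e
  subst e
  haveI : Algebra.Etale A (B ⊗[A] B) := Algebra.Etale.comp A B _
  haveI : Algebra.Etale A (B ⊗[A] (B ⊗[A] B)) := Algebra.Etale.comp A B _
  let il : B →ₐ[A] B ⊗[A] B := Algebra.TensorProduct.includeLeft
  let ir : B →ₐ[A] B ⊗[A] B := Algebra.TensorProduct.includeRight
  let P := aObj h (B ⊗[A] B)
  have hg0 : ∀ a b : P ⟶ aObj h B, ψ.hom.app (op P) (X₂.obj.map b.op t - X₂.obj.map a.op t) = 0 := fun a b => by
    rw [map_sub, NatTrans.naturality_apply ψ.hom, NatTrans.naturality_apply ψ.hom, ht, map_map, map_map,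
      map_eq_of_top X₃ (b ≫ toTop _) (a ≫ toTop _), sub_self]
  obtain ⟨G, hG⟩ := (sect_exact hS P).2 _ (hg0 (aMap h il) (aMap h ir))
  replace hG : φ.hom.app (op P) G = X₂.obj.map (aMap h ir).op t - X₂.obj.map (aMap h il).op t := hG
  let P3 := aObj h (B ⊗[A] (B ⊗[A] B))
  have hG3 : (EtCoh.Gm X).obj.map (aMap h (q13 A B)).op G =
      (EtCoh.Gm X).obj.map (aMap h (q12 A B)).op G + (EtCoh.Gm X).obj.map (aMap h (q23 A B)).op G := by
    refine (sect_exact hS P3).1 ?_
    have hp : ∀ p : B ⊗[A] B →ₐ[A] B ⊗[A] (B ⊗[A] B), φ.hom.app (op P3) ((EtCoh.Gm X).obj.map (aMap h p).op G) =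
        X₂.obj.map (aMap h (p.comp ir)).op t - X₂.obj.map (aMap h (p.comp il)).op t := fun p => by
      rw [NatTrans.naturality_apply φ.hom, hG, map_sub, map_map, map_map, aMap_comp, aMap_comp]
    have e1 : (q13 A B).comp il = (q12 A B).comp il := AlgHom.ext fun x => by simp [q13, q12, il]
    have e2 : (q12 A B).comp ir = (q23 A B).comp il := AlgHom.ext fun x => by simp [q23, q12, il, ir]
    have e3 : (q13 A B).comp ir = (q23 A B).comp ir := AlgHom.ext fun x => by simp [q23, q13, ir]
    show φ.hom.app (op P3) _ = φ.hom.app (op P3) _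
    rw [map_add, hp, hp, hp, e1, e2, e3]
    abel
  have hcoc : q13 A B (aVal h G : B ⊗[A] B) = q12 A B (aVal h G : B ⊗[A] B) * q23 A B (aVal h G : B ⊗[A] B) := by
    have h1 := congrArg (fun x => (aVal h x : B ⊗[A] (B ⊗[A] B))) hG3
    simp only [aVal_add, Units.val_mul, aVal_map] at h1
    exact h1
  obtain ⟨m, hmq, hm⟩ := exists_fixed_notMem (aVal h G) hcoc q.asIdeal q.isPrime
  -- an element of `A` whose locus is covered by the locus of `m`
  have hopen : IsOpenMap (PrimeSpectrum.comap (algebraMap A B)) :=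
    PrimeSpectrum.isOpenMap_comap_of_hasGoingDown_of_finitePresentation
  obtain ⟨_, ⟨f, rfl⟩, hqf, hfsub⟩ := (PrimeSpectrum.isTopologicalBasis_basic_opens (R := A)).exists_subset_of_mem_open
    (Set.mem_image_of_mem _ (show q ∈ (PrimeSpectrum.basicOpen m : Set (PrimeSpectrum B)) from hmq))
    (hopen _ (PrimeSpectrum.basicOpen m).isOpen)
  let A' := Localization.Away f
  let B' := Localization.Away (m * algebraMap A B f)
  haveI : Algebra.Etale A A' := Algebra.Etale.of_isLocalizationAway f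
  haveI : Algebra.Etale B B' := Algebra.Etale.of_isLocalizationAway (m * algebraMap A B f)
  haveI : Algebra.Etale A B' := Algebra.Etale.comp A B B'
  have hu : IsUnit (algebraMap B B' (m * algebraMap A B f)) := IsLocalization.Away.algebraMap_isUnit _
  rw [map_mul, IsUnit.mul_iff, ← IsScalarTower.algebraMap_apply] at hu
  let π : A' →ₐ[A] B' :=
    { IsLocalization.Away.lift f hu.2 with
      commutes' := fun r => IsLocalization.Away.lift_eq f hu.2 r }
  let j : B →ₐ[A] B' := IsScalarTower.toAlgHom A B B'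
  let S' := aObj h A'
  let T' := aObj h B'
  let p : T' ⟶ S' := aMap h π
  -- the corrected lift
  let mu : EtCoh.sect (EtCoh.Gm X) T' := aSect h hu.1.unit
  let t' : EtCoh.sect X₂ T' := X₂.obj.map (aMap h j).op t - φ.hom.app (op T') mu
  have hcompat : ∀ (T : X.Etale) (a b : T ⟶ T'), a ≫ p = b ≫ p → X₂.obj.map a.op t' = X₂.obj.map b.op t' := by
    intro T a b _
    have hab : (a ≫ aMap h j).left ≫ Spec.map (CommRingCat.ofHom (algebraMap A B)) =
        (b ≫ aMap h j).left ≫ Spec.map (CommRingCat.ofHom (algebraMap A B)) := by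
      refine (cancel_mono h).1 ?_
      rw [Category.assoc, Category.assoc]
      exact (MorphismProperty.Over.w (a ≫ aMap h j)).trans (MorphismProperty.Over.w (b ≫ aMap h j)).symm
    let c₀ : T.left ⟶ Spec (CommRingCat.of (B ⊗[A] B)) :=
      pullback.lift (a ≫ aMap h j).left (b ≫ aMap h j).left hab ≫ (pullbackSpecIso A B B).hom
    have hc1 : c₀ ≫ Spec.map (CommRingCat.ofHom il.toRingHom) = (a ≫ aMap h j).left := by
      refine (Category.assoc _ _ _).trans ?_
      rw [show Spec.map (CommRingCat.ofHom il.toRingHom) =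
        (pullbackSpecIso A B B).inv ≫ pullback.fst _ _ from (pullbackSpecIso_inv_fst A B B).symm]
      exact (congrArg (pullback.lift (a ≫ aMap h j).left (b ≫ aMap h j).left hab ≫ ·)
        (Iso.hom_inv_id_assoc _ _)).trans (pullback.lift_fst _ _ _)
    have hc2 : c₀ ≫ Spec.map (CommRingCat.ofHom ir.toRingHom) = (b ≫ aMap h j).left := by
      refine (Category.assoc _ _ _).trans ?_
      rw [show Spec.map (CommRingCat.ofHom ir.toRingHom) =
        (pullbackSpecIso A B B).inv ≫ pullback.snd _ _ from (pullbackSpecIso_inv_snd A B B).symm]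
      exact (congrArg (pullback.lift (a ≫ aMap h j).left (b ≫ aMap h j).left hab ≫ ·)
        (Iso.hom_inv_id_assoc _ _)).trans (pullback.lift_snd _ _ _)
    let c : T ⟶ P := MorphismProperty.Over.homMk c₀ (by
      show c₀ ≫ Spec.map (CommRingCat.ofHom (algebraMap A (B ⊗[A] B))) ≫ h = T.hom
      refine Eq.trans ?_ (MorphismProperty.Over.w (a ≫ aMap h j))
      show _ = (a ≫ aMap h j).left ≫ Spec.map (CommRingCat.ofHom (algebraMap A B)) ≫ h
      rw [← hc1]
      refine Eq.trans ?_ (Category.assoc _ _ _).symm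
      refine congrArg (c₀ ≫ ·) ?_
      have he : CommRingCat.ofHom (algebraMap A B) ≫ CommRingCat.ofHom il.toRingHom =
          CommRingCat.ofHom (algebraMap A (B ⊗[A] B)) := CommRingCat.hom_ext il.comp_algebraMap
      exact (congrArg (· ≫ h) ((Spec.map_comp _ _).symm.trans (congrArg Spec.map he))).symm.trans (Category.assoc _ _ _))
    have hca : c ≫ aMap h il = a ≫ aMap h j := MorphismProperty.Over.Hom.ext hc1
    have hcb : c ≫ aMap h ir = b ≫ aMap h j := MorphismProperty.Over.Hom.ext hc2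
    have hmu : (EtCoh.Gm X).obj.map b.op mu = (EtCoh.Gm X).obj.map c.op G + (EtCoh.Gm X).obj.map a.op mu := by
      refine gmFun_ext ?_
      show _ = ((gmFun ((EtCoh.Gm X).obj.map c.op G) : Γ(T.left, ⊤)ˣ) : Γ(T.left, ⊤)) *
        ((gmFun ((EtCoh.Gm X).obj.map a.op mu) : Γ(T.left, ⊤)ˣ) : Γ(T.left, ⊤))
      rw [gmFun_map_aVal, gmFun_map_aVal, gmFun_map_aVal, aVal_aSect, IsUnit.unit_spec]
      have h1 := congrArg (pb h c) hm
      rw [map_mul] at h1
      rw [show pb h b (algebraMap B B' m) = pb h c (ir m) from by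
          rw [← pb_comp, hcb, pb_comp]; rfl,
        show pb h a (algebraMap B B' m) = pb h c (il m) from by
          rw [← pb_comp, hca, pb_comp]; rfl]
      exact h1
    have h2 := congrArg (X₂.obj.map c.op) hG
    rw [map_sub, map_map, map_map, hca, hcb, ← NatTrans.naturality_apply φ.hom] at h2
    show X₂.obj.map a.op (_ - _) = X₂.obj.map b.op (_ - _)
    rw [map_sub, map_sub, map_map, map_map, ← NatTrans.naturality_apply φ.hom, ← NatTrans.naturality_apply φ.hom, hmu,
      map_add, h2]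
    abel
  have hmem : Sieve.generate (Presieve.ofArrows (fun _ : PUnit.{1} => T') fun _ => p) ∈ X.smallEtaleTopology S' := by
    refine (mem_topology_iff _).2 fun (P₀ : PrimeSpectrum A') => ?_
    let P₁ := PrimeSpectrum.comap (algebraMap A A') P₀
    have hP₁ : P₁ ∈ (PrimeSpectrum.basicOpen f : Set (PrimeSpectrum A)) := by
      rw [← PrimeSpectrum.localization_away_comap_range A' f]
      exact ⟨P₀, rfl⟩
    obtain ⟨Q, hQm, hQ⟩ := hfsub hP₁
    obtain ⟨Q', hQ'⟩ : Q ∈ Set.range (PrimeSpectrum.comap (algebraMap B B')) := by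
      rw [PrimeSpectrum.localization_away_comap_range B' (m * algebraMap A B f)]
      show m * algebraMap A B f ∉ Q.asIdeal
      intro hmem
      rcases Q.isPrime.mem_or_mem hmem with h0 | h0
      · exact hQm h0
      · exact hP₁ (hQ ▸ h0)
    refine ⟨T', p, Q', ⟨_, 𝟙 _, _, Presieve.ofArrows.mk PUnit.unit, Category.id_comp _⟩, ?_⟩
    show PrimeSpectrum.comap π.toRingHom Q' = P₀
    refine PrimeSpectrum.localization_comap_injective A' (Submonoid.powers f) ?_
    show _ = P₁
    rw [← hQ, ← hQ']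
    refine PrimeSpectrum.ext (Ideal.ext fun r => ?_)
    show π (algebraMap A A' r) ∈ Q'.asIdeal ↔ algebraMap B B' (algebraMap A B r) ∈ Q'.asIdeal
    rw [AlgHom.commutes, IsScalarTower.algebraMap_apply A B B']
  have hsh : ∀ F : EtCoh.Ab X, Presieve.IsSheafFor (F.obj ⋙ forget AddCommGrpCat.{u + 1})
      (Presieve.ofArrows (fun _ : PUnit.{1} => T') fun _ => p) := fun F => by
    rw [Presieve.isSheafFor_iff_generate]
    exact ((isSheaf_iff_isSheaf_of_type _ _).1
      ((Presheaf.isSheaf_iff_isSheaf_forget X.smallEtaleTopology F.obj (forget AddCommGrpCat.{u + 1})).1 F.2)) _ hmem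
  obtain ⟨w, hw, -⟩ := (Presieve.isSheafFor_arrows_iff _ _).1 (hsh X₂) (fun _ => t')
    fun _ _ T a b hab => hcompat T a b hab
  have hw' : X₂.obj.map p.op w = t' := hw PUnit.unit
  have hψw : ψ.hom.app (op S') w = X₃.obj.map (toTop S').op s := by
    refine (hsh X₃).isSeparatedFor.ext fun _ _ hf => ?_
    cases hf with
    | mk i =>
      show X₃.obj.map p.op (ψ.hom.app (op S') w) = X₃.obj.map p.op (X₃.obj.map (toTop S').op s)
      have hz : ψ.hom.app (op T') (φ.hom.app (op T') mu) = 0 :=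
        congrArg (fun m : EtCoh.Gm X ⟶ X₃ => m.hom.app (op T') mu) z
      rw [← NatTrans.naturality_apply ψ.hom, hw', map_sub, hz, sub_zero, NatTrans.naturality_apply ψ.hom, ht,
        map_map, map_map]
      exact map_eq_of_top X₃ _ _ s
  let iA : Spec (CommRingCat.of A') ⟶ X := Spec.map (CommRingCat.ofHom (algebraMap A A')) ≫ h
  haveI : IsOpenImmersion (Spec.map (CommRingCat.ofHom (algebraMap A A'))) := IsOpenImmersion.of_isLocalization f
  haveI : IsOpenImmersion iA :=
    inferInstanceAs (IsOpenImmersion (Spec.map (CommRingCat.ofHom (algebraMap A A')) ≫ h))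
  let O := iA.opensRange
  let ι' : O.toScheme ⟶ Spec (CommRingCat.of A') :=
    IsOpenImmersion.lift iA O.ι (by rw [Scheme.Opens.range_ι]; exact subset_rfl)
  let k : EtDesc.ofOpen O ⟶ S' := MorphismProperty.Over.homMk ι' (IsOpenImmersion.lift_fac iA O.ι _)
  refine ⟨O, ?_, X₂.obj.map k.op w, ?_⟩
  · obtain ⟨P₀, hP₀⟩ : PrimeSpectrum.comap (algebraMap A B) q ∈ Set.range (PrimeSpectrum.comap (algebraMap A A')) := by
      rw [PrimeSpectrum.localization_away_comap_range A' f]
      exact hqf
    refine ⟨P₀, ?_⟩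
    show iA P₀ = _
    rw [Scheme.Hom.comp_apply, Scheme.Hom.comp_apply]
    exact congrArg h hP₀
  · rw [NatTrans.naturality_apply ψ.hom, hψw, map_map]
    exact map_eq_of_top X₃ _ _ s

end Groth.Agent.BrauerXPic
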