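import Groth.Agent.EtFound.OpenSubterminal
import Groth.Agent.BrauerXCurve.MaxPoint
import Groth.Agent.AModX.Res
import Mathlib.CategoryTheory.Preadditive.Injective.Basic

/-!
# Étale sheaves on Zariski opens: units, gluing, and splitting of cocycles in injective sheaves
-/

universe u

open CategoryTheory CategoryTheory.Limits AlgebraicGeometry Opposite

namespace Groth.Agent.BrauerXPic

open Groth.Agent.EtFound Groth.Agent.BrauerXCurve

set_option backward.isDefEq.respectTransparency.types false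

variable {X : Scheme.{u}}

/-- inclusion of opens in the small étale site -/
noncomputable def openHom {U V : X.Opens} (h : U ≤ V) : EtDesc.ofOpen U ⟶ EtDesc.ofOpen V :=
  MorphismProperty.Over.homMk (X.homOfLE h) (X.homOfLE_ι h)

/-- the morphism to the total space -/
noncomputable def toTop (T : X.Etale) : T ⟶ EtCoh.top X := (EtCore.topIsTerminal X).from T

theorem map_map (F : EtCoh.Ab X) {R S T : X.Etale} (a : R ⟶ S) (b : S ⟶ T) (s : EtCoh.sect F T) :
    F.obj.map a.op (F.obj.map b.op s) = F.obj.map (a ≫ b).op s := by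
  rw [op_comp, Functor.map_comp, ConcreteCategory.comp_apply]

theorem map_eq_of_open (F : EtCoh.Ab X) {U : X.Opens} {T : X.Etale} (a b : T ⟶ EtDesc.ofOpen U)
    (s : EtCoh.sect F (EtDesc.ofOpen U)) : F.obj.map a.op s = F.obj.map b.op s :=
  congrArg (fun m => F.obj.map (Quiver.Hom.op m) s) ((subsingleton_hom_ofOpen U T).elim a b)

theorem map_eq_of_top (F : EtCoh.Ab X) {T : X.Etale} (a b : T ⟶ EtCoh.top X)
    (s : EtCoh.sect F (EtCoh.top X)) : F.obj.map a.op s = F.obj.map b.op s :=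
  congrArg (fun m => F.obj.map (Quiver.Hom.op m) s) ((EtCore.topIsTerminal X).hom_ext a b)

/-- a morphism into the intersection -/
theorem exists_hom_inf {U V : X.Opens} {T : X.Etale} (a : T ⟶ EtDesc.ofOpen U) (b : T ⟶ EtDesc.ofOpen V) :
    Nonempty (T ⟶ EtDesc.ofOpen (U ⊓ V)) :=
  (nonempty_hom_ofOpen_iff _ _).2 fun t =>
    ⟨(nonempty_hom_ofOpen_iff U T).1 ⟨a⟩ t, (nonempty_hom_ofOpen_iff V T).1 ⟨b⟩ t⟩

/-- the units of the open subscheme given by a section of `G_m` -/
noncomputable def gmU {U : X.Opens} (s : EtCoh.sect (EtCoh.Gm X) (EtDesc.ofOpen U)) : Γ(U.toScheme, ⊤)ˣ :=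
  gmFun s

/-- the units of the functions on an open given by a section of `G_m` -/
noncomputable def unitVal {U : X.Opens} (s : EtCoh.sect (EtCoh.Gm X) (EtDesc.ofOpen U)) : Γ(X, U)ˣ :=
  Units.map U.topIso.hom.hom.toMonoidHom (gmU s)

/-- the section of `G_m` given by a unit -/
noncomputable def unitSect {U : X.Opens} (a : Γ(X, U)ˣ) : EtCoh.sect (EtCoh.Gm X) (EtDesc.ofOpen U) :=
  gmSect (V := EtDesc.ofOpen U) (Units.map U.topIso.inv.hom.toMonoidHom a)

theorem unitVal_unitSect {U : X.Opens} (a : Γ(X, U)ˣ) : unitVal (unitSect a) = a :=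
  Units.ext (U.topIso.commRingCatIsoToRingEquiv.apply_symm_apply (a : Γ(X, U)))

theorem unitVal_injective {U : X.Opens} : Function.Injective (unitVal (U := U)) := fun _ _ h =>
  gmFun_ext (V := EtDesc.ofOpen U) (U.topIso.commRingCatIsoToRingEquiv.injective (congrArg Units.val h))

theorem unitVal_add {U : X.Opens} (s t : EtCoh.sect (EtCoh.Gm X) (EtDesc.ofOpen U)) :
    unitVal (s + t) = unitVal s * unitVal t :=
  map_mul (Units.map U.topIso.hom.hom.toMonoidHom) (gmU s) (gmU t)

theorem unitVal_map {U V : X.Opens} (h : U ≤ V) (s : EtCoh.sect (EtCoh.Gm X) (EtDesc.ofOpen V)) :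
    (unitVal ((EtCoh.Gm X).obj.map (openHom h).op s) : Γ(X, U)) = AModX.resR h (unitVal s : Γ(X, V)) := by
  have key : (X.homOfLE h).appTop ≫ U.topIso.hom = V.topIso.hom ≫ X.presheaf.map (homOfLE h).op := by
    rw [Scheme.homOfLE_appTop]
    simp only [Scheme.Opens.topIso, Functor.mapIso_hom]
    exact (X.presheaf.map_comp _ _).symm.trans ((congrArg X.presheaf.map (Subsingleton.elim _ _)).trans (X.presheaf.map_comp _ _))
  exact congrArg (fun m => m.hom ((gmU s : Γ(V.toScheme, ⊤)ˣ) : Γ(V.toScheme, ⊤))) key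

section Cover

variable {I : Type u} (O : I → X.Opens)

theorem cover_mem (hcov : ∀ x : X, ∃ i, x ∈ O i) :
    Sieve.generate (Presieve.ofArrows (fun i => EtDesc.ofOpen (O i)) fun i => toTop (EtDesc.ofOpen (O i))) ∈
      X.smallEtaleTopology (EtCoh.top X) := by
  refine (mem_topology_iff _).2 fun (x : X) => ?_
  obtain ⟨i, hi⟩ := hcov x
  refine ⟨EtDesc.ofOpen (O i), toTop _, ⟨x, hi⟩,
    ⟨_, 𝟙 _, _, Presieve.ofArrows.mk i, Category.id_comp _⟩, ?_⟩
  have h := apply_hom (toTop (EtDesc.ofOpen (O i))) (⟨x, hi⟩ : (O i).toScheme)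
  exact h

theorem isSheafFor_cover (F : EtCoh.Ab X) (hcov : ∀ x : X, ∃ i, x ∈ O i) :
    Presieve.IsSheafFor (F.obj ⋙ forget AddCommGrpCat.{u + 1})
      (Presieve.ofArrows (fun i => EtDesc.ofOpen (O i)) fun i => toTop (EtDesc.ofOpen (O i))) := by
  rw [Presieve.isSheafFor_iff_generate]
  exact ((isSheaf_iff_isSheaf_of_type _ _).1
    ((Presheaf.isSheaf_iff_isSheaf_forget X.smallEtaleTopology F.obj
      (forget AddCommGrpCat.{u + 1})).1 F.2)) _ (cover_mem O hcov)

/-- global sections are determined on a cover by opens -/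
theorem top_ext (F : EtCoh.Ab X) (hcov : ∀ x : X, ∃ i, x ∈ O i) (s t : EtCoh.sect F (EtCoh.top X))
    (h : ∀ i, F.obj.map (toTop (EtDesc.ofOpen (O i))).op s = F.obj.map (toTop (EtDesc.ofOpen (O i))).op t) :
    s = t :=
  (isSheafFor_cover O F hcov).isSeparatedFor.ext fun _ _ hf => by
    cases hf with
    | mk i => exact h i

/-- sections on a cover by opens agreeing on intersections glue -/
theorem exists_glue (F : EtCoh.Ab X) (hcov : ∀ x : X, ∃ i, x ∈ O i)
    (t : ∀ i, EtCoh.sect F (EtDesc.ofOpen (O i)))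
    (h : ∀ i j (T : X.Etale) (a : T ⟶ EtDesc.ofOpen (O i)) (b : T ⟶ EtDesc.ofOpen (O j)),
      F.obj.map a.op (t i) = F.obj.map b.op (t j)) :
    ∃ w : EtCoh.sect F (EtCoh.top X), ∀ i, F.obj.map (toTop (EtDesc.ofOpen (O i))).op w = t i := by
  obtain ⟨w, hw, -⟩ := (Presieve.isSheafFor_arrows_iff _ _).1 (isSheafFor_cover O F hcov) t
    fun i j T a b _ => h i j T a b
  exact ⟨w, hw⟩

end Cover

section Cofree

/-- the cofree presheaf on the sections of a presheaf -/
noncomputable def cofree (P : X.Etaleᵒᵖ ⥤ AddCommGrpCat.{u + 1}) : X.Etaleᵒᵖ ⥤ AddCommGrpCat.{u + 1} where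
  obj T := AddCommGrpCat.of (∀ T₀ : X.Etale, (T₀ ⟶ T.unop) → P.obj (op T₀))
  map f := AddCommGrpCat.ofHom
    { toFun := fun x T₀ h => x T₀ (h ≫ f.unop)
      map_zero' := rfl
      map_add' := fun _ _ => rfl }
  map_id T := AddCommGrpCat.hom_ext <| AddMonoidHom.ext fun x => funext₂ fun T₀ h =>
    congrArg (x T₀) (Category.comp_id h)
  map_comp f g := AddCommGrpCat.hom_ext <| AddMonoidHom.ext fun x => funext₂ fun T₀ h =>
    congrArg (x T₀) (Category.assoc h _ _).symm

/-- the embedding into the cofree presheaf -/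
noncomputable def toCofree (P : X.Etaleᵒᵖ ⥤ AddCommGrpCat.{u + 1}) : P ⟶ cofree P where
  app T := AddCommGrpCat.ofHom
    { toFun := fun x T₀ h => P.map h.op x
      map_zero' := funext₂ fun T₀ h => map_zero (P.map h.op).hom
      map_add' := fun x y => funext₂ fun T₀ h => map_add (P.map h.op).hom x y }
  naturality T T' f := AddCommGrpCat.hom_ext <| AddMonoidHom.ext fun x => funext₂ fun T₀ h =>
    (ConcreteCategory.congr_hom (P.map_comp f h.op) x).symm

instance mono_toCofree (P : X.Etaleᵒᵖ ⥤ AddCommGrpCat.{u + 1}) : Mono (toCofree P) := by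
  rw [NatTrans.mono_iff_mono_app]
  refine fun T => (AddCommGrpCat.mono_iff_injective _).2 fun x y h => ?_
  have h' := congrFun (congrFun h T.unop) (𝟙 _)
  exact ((ConcreteCategory.congr_hom (P.map_id T) x).symm.trans h').trans (ConcreteCategory.congr_hom (P.map_id T) y)

open scoped Classical in
/-- a cocycle on a family of opens with values in an injective sheaf is a coboundary -/
theorem exists_coboundary {F : EtCoh.Ab X} [Injective F] {I : Type u} (O : I → X.Opens)
    (g : ∀ (i j : I) (T : X.Etale), (T ⟶ EtDesc.ofOpen (O i)) → (T ⟶ EtDesc.ofOpen (O j)) → EtCoh.sect F T)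
    (hnat : ∀ i j (T T' : X.Etale) (c : T' ⟶ T) a b, F.obj.map c.op (g i j T a b) = g i j T' (c ≫ a) (c ≫ b))
    (hcoc : ∀ i j l T a b c, g i j T a b + g j l T b c = g i l T a c) :
    ∃ t : ∀ i, EtCoh.sect F (EtDesc.ofOpen (O i)), ∀ i j T a b,
      F.obj.map b.op (t j) - F.obj.map a.op (t i) = g i j T a b := by
  haveI : Injective F.obj :=
    Injective.injective_of_adjoint (sheafificationAdjunction X.smallEtaleTopology AddCommGrpCat.{u + 1}) F
  let e := toCofree F.obj
  let r : cofree F.obj ⟶ F.obj := Injective.factorThru (𝟙 F.obj) e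
  have hr : e ≫ r = 𝟙 F.obj := Injective.comp_factorThru _ _
  let K (T : X.Etale) : Type u := {i : I // Nonempty (T ⟶ EtDesc.ofOpen (O i))}
  let i₀ (T : X.Etale) (h : Nonempty (K T)) : K T := h.some
  let y : ∀ i, (cofree F.obj).obj (op (EtDesc.ofOpen (O i))) := fun i T h =>
    g (i₀ T ⟨⟨i, ⟨h⟩⟩⟩).1 i T (i₀ T ⟨⟨i, ⟨h⟩⟩⟩).2.some h
  refine ⟨fun i => r.app _ (y i), fun i j T a b => ?_⟩
  have h1 : (cofree F.obj).map b.op (y j) - (cofree F.obj).map a.op (y i) = e.app (op T) (g i j T a b) :=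
    funext₂ fun T₀ h => by
      show g (i₀ T₀ _).1 j T₀ _ (h ≫ b) - g (i₀ T₀ _).1 i T₀ _ (h ≫ a) = F.obj.map h.op (g i j T a b)
      rw [hnat, sub_eq_iff_eq_add', hcoc]
  have h2 := congrArg (r.app (op T)) h1
  rw [map_sub, NatTrans.naturality_apply, NatTrans.naturality_apply] at h2
  exact h2.trans (ConcreteCategory.congr_hom (congrArg (fun m => m.app (op T)) hr) _)

end Cofree

end Groth.Agent.BrauerXPic
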