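import Groth.Agent.BrauerXPic.Descent
import Groth.Agent.EtMVLib.PullSec
import Groth.Agent.EtMVLib.HpullApply
import Groth.Agent.EtFound.PullStalk

/-!
# Classes in `H^1(X, G_m)` and Zariski local lifts
-/

universe u

open CategoryTheory CategoryTheory.Limits AlgebraicGeometry Opposite CategoryTheory.Abelian

namespace Groth.Agent.BrauerXPic

open Groth.Agent.EtFound

set_option backward.isDefEq.respectTransparency.types false

variable {X : Scheme.{u}}

/-- the global section given by a morphism out of `ℤ` -/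
noncomputable def secOf {F : EtCoh.Ab X} (y : EtCoh.const X ℤ ⟶ F) : EtCoh.sect F (EtCoh.top X) :=
  ((EtCore.constAdj X).homEquiv _ _ y).hom (ULift.up 1)

/-- the morphism out of `ℤ` given by a global section -/
noncomputable def homOf {F : EtCoh.Ab X} (w : EtCoh.sect F (EtCoh.top X)) : EtCoh.const X ℤ ⟶ F :=
  ((EtCore.constAdj X).homEquiv _ _).symm
    (AddCommGrpCat.ofHom ((zmultiplesHom _ w).comp AddEquiv.ulift.toAddMonoidHom))

theorem secOf_homOf {F : EtCoh.Ab X} (w : EtCoh.sect F (EtCoh.top X)) : secOf (homOf w) = w := by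
  rw [secOf, homOf, Equiv.apply_symm_apply]
  exact one_zsmul w

theorem secOf_comp {F G : EtCoh.Ab X} (y : EtCoh.const X ℤ ⟶ F) (a : F ⟶ G) :
    secOf (y ≫ a) = a.hom.app (op (EtCoh.top X)) (secOf y) := by
  rw [secOf, secOf, Adjunction.homEquiv_naturality_right]
  rfl

theorem secOf_injective {F : EtCoh.Ab X} : Function.Injective (secOf (X := X) (F := F)) := fun a b h => by
  apply ((EtCore.constAdj X).homEquiv _ _).injective
  apply AddCommGrpCat.ext
  intro x
  have hx : x = x.down • (ULift.up 1 : ULift.{u + 1} ℤ) := ULift.ext _ _ (by simp)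
  rw [hx, map_zsmul, map_zsmul]
  exact congrArg _ h

/-- a class is zero exactly when its section lifts globally -/
theorem class_eq_zero_iff {S : ShortComplex (EtCoh.Ab X)} (hS : S.ShortExact) (y : EtCoh.const X ℤ ⟶ S.X₃) :
    (Ext.mk₀ y).comp hS.extClass (zero_add 1) = 0 ↔
      ∃ w, S.g.hom.app (op (EtCoh.top X)) w = secOf y := by
  constructor
  · intro h
    obtain ⟨t, ht⟩ := Ext.covariant_sequence_exact₃ _ hS (Ext.mk₀ y) (zero_add 1) h
    obtain ⟨ψ, rfl⟩ := (Ext.mk₀_bijective _ _).2 t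
    rw [Ext.mk₀_comp_mk₀] at ht
    exact ⟨secOf ψ, (secOf_comp ψ S.g).symm.trans (congrArg secOf ((Ext.mk₀_bijective _ _).1 ht))⟩
  · rintro ⟨w, hw⟩
    have hy : homOf w ≫ S.g = y := secOf_injective (by rw [secOf_comp, secOf_homOf, hw])
    rw [← hy, ← Ext.mk₀_comp_mk₀, Ext.comp_assoc_of_second_deg_zero, hS.comp_extClass]
    exact Ext.comp_zero _ _ _ _ rfl

/-- the section given by the pullback of a morphism out of `ℤ` -/
theorem secOf_pullConst_inv {Y : Scheme.{u}} (f : Y ⟶ X) {F : EtCoh.Ab X} (y : EtCoh.const X ℤ ⟶ F) :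
    secOf ((EtCore.pullConst f ℤ).inv ≫ (EtCoh.pull f).map y) = (EtMVLib.pullSec f).app F (secOf y) := by
  rw [secOf, Adjunction.homEquiv_naturality_right, EtMVLib.homEquiv_pullConst_inv, Category.assoc]
  show ((EtMVLib.pullSec f).app _ ≫ (EtCore.gsec Y).map ((EtCoh.pull f).map y))
    ((EtCore.constAdj X).unit.app _ (ULift.up 1)) = _
  refine (congrArg (fun m => m ((EtCore.constAdj X).unit.app (AddCommGrpCat.of (ULift.{u + 1} ℤ)) (ULift.up 1)))
    ((EtMVLib.pullSec f).naturality y)).symm.trans ?_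
  rw [ConcreteCategory.comp_apply]
  refine congrArg ((EtMVLib.pullSec f).app F) ?_
  rw [secOf, Adjunction.homEquiv_unit]
  rfl

theorem exists_hom_bc_ofOpen (O : X.Opens) :
    Nonempty (EtCoh.top O.toScheme ⟶ (EtCoh.bc O.ι).obj (EtDesc.ofOpen O)) :=
  ⟨MorphismProperty.Over.homMk (pullback.lift (𝟙 O.toScheme) (𝟙 O.toScheme) rfl) (pullback.lift_snd _ _ _)⟩

/-- a class whose section lifts on an open pulls back to zero there -/
theorem Hpull_class_eq_zero {S : ShortComplex (EtCoh.Ab X)} (hS : S.ShortExact) (y : EtCoh.const X ℤ ⟶ S.X₃)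
    (O : X.Opens) [PreservesFiniteLimits (EtCoh.pull O.ι)] (t : EtCoh.sect S.X₂ (EtDesc.ofOpen O))
    (ht : S.g.hom.app (op (EtDesc.ofOpen O)) t = S.X₃.obj.map (toTop (EtDesc.ofOpen O)).op (secOf y)) :
    EtCore.Hpull O.ι S.X₁ 1 ((Ext.mk₀ y).comp hS.extClass (zero_add 1)) = 0 := by
  rw [EtMVLib.Hpull_apply, Ext.mapExactFunctor_comp, Ext.mapExactFunctor_mk₀, Ext.mapExactFunctor_extClass,
    Ext.mk₀_comp_mk₀_assoc]
  refine (class_eq_zero_iff (hS.map_of_exact (EtCoh.pull O.ι)) _).2 ?_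
  obtain ⟨δ⟩ := exists_hom_bc_ofOpen O
  let u := (EtCoh.pullPushAdj O.ι).unit
  let t' : EtCoh.sect ((EtCoh.pull O.ι).obj S.X₂) (EtCoh.top O.toScheme) :=
    ((EtCoh.pull O.ι).obj S.X₂).obj.map δ.op ((u.app S.X₂).hom.app (op (EtDesc.ofOpen O)) t)
  refine ⟨t', ?_⟩
  show ((EtCoh.pull O.ι).map S.g).hom.app _ t' = _
  refine Eq.trans ?_ (secOf_pullConst_inv O.ι y).symm
  rw [NatTrans.naturality_apply ((EtCoh.pull O.ι).map S.g).hom]
  have h1 : ((EtCoh.pull O.ι).map S.g).hom.app (op ((EtCoh.bc O.ι).obj (EtDesc.ofOpen O)))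
      ((u.app S.X₂).hom.app (op (EtDesc.ofOpen O)) t) =
      (u.app S.X₃).hom.app (op (EtDesc.ofOpen O)) (S.g.hom.app (op (EtDesc.ofOpen O)) t) :=
    (congrArg (fun m => m.hom.app (op (EtDesc.ofOpen O)) t) (u.naturality S.g)).symm
  rw [h1, ht]
  refine (congrArg (((EtCoh.pull O.ι).obj S.X₃).obj.map δ.op)
    (NatTrans.naturality_apply (u.app S.X₃).hom (toTop (EtDesc.ofOpen O)).op (secOf y))).trans ?_
  show ((EtCoh.pull O.ι).obj S.X₃).obj.map δ.op (((EtCoh.pull O.ι).obj S.X₃).obj.map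
    ((EtCoh.bc O.ι).map (toTop (EtDesc.ofOpen O))).op _) =
      ((EtCoh.pull O.ι).obj S.X₃).obj.map (EtCore.bcTopIso O.ι).inv.op _
  rw [map_map]
  exact congrArg (fun m => ((EtCoh.pull O.ι).obj S.X₃).obj.map (Quiver.Hom.op m) _)
    ((EtCore.bcTopIsTerminal O.ι).hom_ext _ _)

/-- sections of a quotient by `G_m` lift Zariski locally -/
theorem exists_local_lift {S : ShortComplex (EtCoh.Ab X)} (hS : S.ShortExact) (e : S.X₁ = EtCoh.Gm X)
    (s : EtCoh.sect S.X₃ (EtCoh.top X)) (x : X) :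
    ∃ O : X.Opens, x ∈ O ∧ ∃ w : EtCoh.sect S.X₂ (EtDesc.ofOpen O),
      S.g.hom.app (op (EtDesc.ofOpen O)) w = S.X₃.obj.map (toTop (EtDesc.ofOpen O)).op s := by
  haveI := hS.epi_g
  haveI hls := (Sheaf.isLocallySurjective_iff_epi' _ S.g).2 inferInstance
  obtain ⟨U, hU, hxU, -⟩ := exists_isAffineOpen_mem_and_subset (Set.mem_univ x) (U := (⊤ : X.Opens))
  let E := EtDesc.ofOpen U
  obtain ⟨V, g, v, ⟨t₀, ht₀⟩, hv⟩ := (EtFound.mem_topology_iff _).1
    (Presheaf.imageSieve_mem X.smallEtaleTopology S.g.hom (U := op E) (S.X₃.obj.map (toTop E).op s))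
    (⟨x, hxU⟩ : U.toScheme)
  obtain ⟨O', hO', hvO', -⟩ := exists_isAffineOpen_mem_and_subset (Set.mem_univ v) (U := (⊤ : V.left.Opens))
  haveI : IsAffine U.toScheme := hU
  haveI : IsAffine O'.toScheme := hO'
  haveI := EtFound.etale_left g
  let γ : O'.toScheme ⟶ U.toScheme := O'.ι ≫ g.left
  haveI : AlgebraicGeometry.Etale γ := inferInstanceAs (AlgebraicGeometry.Etale (O'.ι ≫ (g.left : V.left ⟶ U.toScheme)))
  let A := (Γ(U.toScheme, ⊤) : Type u)
  let B := (Γ(O'.toScheme, ⊤) : Type u)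
  letI : Algebra A B := γ.appTop.hom.toAlgebra
  haveI : Algebra.Etale A B :=
    RingHom.etale_algebraMap.1 (HasRingHomProperty.appTop (P := @AlgebraicGeometry.Etale) γ inferInstance)
  let h : Spec (CommRingCat.of A) ⟶ X := U.toScheme.isoSpec.inv ≫ U.ι
  haveI : IsOpenImmersion h := inferInstanceAs (IsOpenImmersion (U.toScheme.isoSpec.inv ≫ U.ι))
  have hk : (O'.toScheme.isoSpec.inv ≫ O'.ι) ≫ V.hom = Spec.map (CommRingCat.ofHom (algebraMap A B)) ≫ h := by
    rw [show Spec.map (CommRingCat.ofHom (algebraMap A B)) ≫ h = (Spec.map γ.appTop ≫ U.toScheme.isoSpec.inv) ≫ U.ι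
        from (Category.assoc _ _ _).symm, Scheme.isoSpec_inv_naturality, ← MorphismProperty.Over.w g,
      Category.assoc, Category.assoc]
    exact congrArg (O'.toScheme.isoSpec.inv ≫ ·) (Category.assoc _ _ _).symm
  let k : aObj h B ⟶ V := MorphismProperty.Over.homMk (O'.toScheme.isoSpec.inv ≫ O'.ι) hk
  obtain ⟨q, hq⟩ : ∃ q : PrimeSpectrum B, O'.toScheme.isoSpec.inv q = ⟨v, hvO'⟩ :=
    O'.toScheme.isoSpec.inv.surjective _
  obtain ⟨O, hO, w, hw⟩ := exists_lift_near h hS e (B := B) s (S.X₂.obj.map k.op t₀) (by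
    rw [NatTrans.naturality_apply S.g.hom, ht₀, map_map, map_map]
    exact map_eq_of_top S.X₃ _ _ s) q
  refine ⟨O, ?_, w, hw⟩
  have hx : (Spec.map (CommRingCat.ofHom (algebraMap A B)) ≫ h) q = x := by
    rw [← hk, Scheme.Hom.comp_apply, Scheme.Hom.comp_apply, hq]
    exact (apply_hom g v).symm.trans (congrArg (fun p : U.toScheme => U.ι p) hv)
  rw [← hx]
  exact hO

end Groth.Agent.BrauerXPic
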