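import Groth.Agent.BrauerXPic.LocalLift
import Groth.Agent.IntTh85.LineGlue

/-!
# `H¹(X_et, G_m) = 0` iff all invertible modules are trivial
-/

universe u

open CategoryTheory CategoryTheory.Limits AlgebraicGeometry Opposite CategoryTheory.Abelian

namespace Groth.Agent.BrauerXPic

open Groth.Agent.EtFound Groth.Agent.InvX

set_option backward.isDefEq.respectTransparency.types false

variable {X : Scheme.{u}} {I : Type u} {O : I → X.Opens}

theorem unitVal_map_unitSect {U V : X.Opens} (h : U ≤ V) (a : Γ(X, V)ˣ) :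
    (unitVal ((EtCoh.Gm X).obj.map (openHom h).op (unitSect a)) : Γ(X, U)) = AModX.resR h (a : Γ(X, V)) := by
  rw [unitVal_map, unitVal_unitSect]

/-- comparison of sections of `G_m` on opens -/
theorem eq_of_unitVal {U : X.Opens} {s t : EtCoh.sect (EtCoh.Gm X) (EtDesc.ofOpen U)}
    (h : (unitVal s : Γ(X, U)) = unitVal t) : s = t :=
  unitVal_injective (Units.ext h)

/-- equalities checked on an intersection -/
theorem map_eq_of_inf {U V : X.Opens} {T : X.Etale} (a : T ⟶ EtDesc.ofOpen U) (b : T ⟶ EtDesc.ofOpen V)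
    (F : EtCoh.Ab X) (s : EtCoh.sect F (EtDesc.ofOpen U)) (t : EtCoh.sect F (EtDesc.ofOpen V))
    (h : F.obj.map (openHom (inf_le_left : U ⊓ V ≤ U)).op s = F.obj.map (openHom (inf_le_right : U ⊓ V ≤ V)).op t) :
    F.obj.map a.op s = F.obj.map b.op t := by
  obtain ⟨c⟩ := exists_hom_inf a b
  rw [map_eq_of_open F a (c ≫ openHom inf_le_left), map_eq_of_open F b (c ≫ openHom inf_le_right),
    ← map_map, ← map_map, h]

/-- the isomorphism between modules with frames having the same transition -/
theorem nonempty_iso_of_frames {M N : X.Modules} (hcov : ∀ x, ∃ i, x ∈ O i) (e : ∀ i, Γ(M, O i))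
    (n : ∀ i, Γ(N, O i)) (he : ∀ i, IsFrame (e i)) (hn : ∀ i, IsFrame (n i))
    (hc : ∀ (a b : I) (W : X.Opens) (ha : W ≤ O a) (hb : W ≤ O b) (g : Γ(X, W)),
      AModX.res M hb (e b) = g • AModX.res M ha (e a) → AModX.res N hb (n b) = g • AModX.res N ha (n a)) :
    Nonempty (M ≅ N) := by
  have hc' : ∀ (a b : I) (W : X.Opens) (ha : W ≤ O a) (hb : W ≤ O b) (g : Γ(X, W)),
      AModX.res N hb (n b) = g • AModX.res N ha (n a) → AModX.res M hb (e b) = g • AModX.res M ha (e a) :=
    fun a b W ha hb g h => by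
      obtain ⟨g', hg'⟩ := (he a).exists_coord ha (AModX.res M hb (e b))
      rw [hg', show g' = g from (hn a).coord_unique ha ((hc a b W ha hb g' hg').symm.trans h)]
  refine ⟨⟨ofFrames hcov he hc, ofFrames hcov hn hc', hom_ext_of_frames O hcov e he fun a => ?_,
    hom_ext_of_frames O hcov n hn fun a => ?_⟩⟩
  · show (ofFrames hcov hn hc').app (O a) ((ofFrames hcov he hc).app (O a) (e a)) = e a
    rw [ofFrames_app, ofFrames_app]
  · show (ofFrames hcov he hc).app (O a) ((ofFrames hcov hn hc').app (O a) (n a)) = n a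
    rw [ofFrames_app, ofFrames_app]

set_option maxHeartbeats 1000000 in
theorem subsingleton_iff :
    Subsingleton (EtCoh.H X (EtCoh.Gm X) 1) ↔
      ∀ L : X.Modules, PicF.IsInvertible L → Nonempty (L ≅ Coh.structureModule X) := by
  let S := EtMVLib.injSES (EtCoh.Gm X)
  have hS : S.ShortExact := EtMVLib.injSES_shortExact (EtCoh.Gm X)
  haveI : Injective S.X₂ := inferInstanceAs (Injective (Injective.under (EtCoh.Gm X)))
  have hker : ∀ (T : X.Etale) (b : EtCoh.sect (EtCoh.Gm X) T), S.g.hom.app (op T) (S.f.hom.app (op T) b) = 0 :=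
    fun T b => congrArg (fun m : EtCoh.Gm X ⟶ S.X₃ => m.hom.app (op T) b) S.zero
  constructor
  · intro hH L hL
    choose O hxO e he using fun x : X => exists_frame hL x
    have hcov : ∀ x : X, ∃ i, x ∈ O i := fun x => ⟨x, hxO x⟩
    -- the transition units
    have hu : ∀ i j : X, ∃ a : Γ(X, O i ⊓ O j)ˣ,
        AModX.res L inf_le_left (e i) = (a : Γ(X, O i ⊓ O j)) • AModX.res L inf_le_right (e j) := fun i j => by
      obtain ⟨r, hr⟩ := (he j).exists_coord inf_le_right (AModX.res L (inf_le_left : O i ⊓ O j ≤ O i) (e i))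
      obtain ⟨r', hr'⟩ := (he i).exists_coord inf_le_left (AModX.res L (inf_le_right : O i ⊓ O j ≤ O j) (e j))
      have h1 : r * r' = 1 := (he i).coord_unique (inf_le_left : O i ⊓ O j ≤ O i) (by
        rw [one_smul, mul_smul, ← hr', ← hr])
      exact ⟨⟨r, r', h1, (mul_comm r' r).trans h1⟩, hr⟩
    choose a ha using hu
    let F := EtCoh.Gm X
    let c : ∀ i j (T : X.Etale), (T ⟶ EtDesc.ofOpen (O i)) → (T ⟶ EtDesc.ofOpen (O j)) → EtCoh.sect F T :=
      fun i j T p q => F.obj.map (exists_hom_inf p q).some.op (unitSect (a i j))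
    have hc : ∀ i j (T : X.Etale) (p : T ⟶ EtDesc.ofOpen (O i)) (q : T ⟶ EtDesc.ofOpen (O j))
        (r : T ⟶ EtDesc.ofOpen (O i ⊓ O j)), c i j T p q = F.obj.map r.op (unitSect (a i j)) :=
      fun i j T p q r => map_eq_of_open F _ r _
    obtain ⟨t, ht⟩ := exists_coboundary (F := S.X₂) O (fun i j T p q => S.f.hom.app (op T) (c i j T p q))
      (fun i j T T' d p q => by
        rw [← NatTrans.naturality_apply S.f.hom]
        refine congrArg _ ?_
        rw [hc i j T' (d ≫ p) (d ≫ q) (d ≫ (exists_hom_inf p q).some), ← map_map])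
      (fun i j l T p q r => by
        refine (map_add (S.f.hom.app (op T)).hom _ _).symm.trans (congrArg _ ?_)
        obtain ⟨d₀⟩ := exists_hom_inf p q
        obtain ⟨d⟩ := exists_hom_inf d₀ r
        let W := O i ⊓ O j ⊓ O l
        have h₁ : W ≤ O i ⊓ O j := inf_le_left
        have h₂ : W ≤ O j ⊓ O l := inf_le_inf_right _ inf_le_right
        have h₃ : W ≤ O i ⊓ O l := inf_le_inf_right _ inf_le_left
        rw [hc i j T p q (d ≫ openHom h₁), hc j l T q r (d ≫ openHom h₂), hc i l T p r (d ≫ openHom h₃),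
          ← map_map, ← map_map, ← map_map, ← map_add]
        refine congrArg _ (eq_of_unitVal ?_)
        rw [unitVal_add, Units.val_mul, unitVal_map_unitSect, unitVal_map_unitSect, unitVal_map_unitSect]
        have e₁ := congrArg (AModX.res L h₁) (ha i j)
        have e₂ := congrArg (AModX.res L h₂) (ha j l)
        have e₃ := congrArg (AModX.res L h₃) (ha i l)
        simp only [AModX.res_smul, AModX.res_res] at e₁ e₂ e₃
        refine (he l).coord_unique (inf_le_right : W ≤ O l) ?_
        rw [mul_smul, ← e₂, ← e₁, e₃])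
    -- the class
    have hglue : ∀ i j (T : X.Etale) (p : T ⟶ EtDesc.ofOpen (O i)) (q : T ⟶ EtDesc.ofOpen (O j)),
        S.X₃.obj.map p.op (S.g.hom.app _ (t i)) = S.X₃.obj.map q.op (S.g.hom.app _ (t j)) := fun i j T p q => by
      rw [← NatTrans.naturality_apply S.g.hom, ← NatTrans.naturality_apply S.g.hom]
      refine (sub_eq_zero.1 ?_).symm
      rw [← map_sub, ht, hker]
    obtain ⟨s, hs⟩ := exists_glue O S.X₃ hcov _ hglue
    obtain ⟨w, hw⟩ := (class_eq_zero_iff hS (homOf s)).1 (@Subsingleton.elim _ hH _ _)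
    rw [secOf_homOf] at hw
    have hb : ∀ i, ∃ b : EtCoh.sect F (EtDesc.ofOpen (O i)), S.f.hom.app _ b =
        t i - S.X₂.obj.map (toTop (EtDesc.ofOpen (O i))).op w := fun i =>
      (sect_exact hS _).2 _ (by
        rw [map_sub, NatTrans.naturality_apply S.g.hom, hw, hs, sub_self])
    choose b hb using hb
    let n : ∀ i, Γ(L, O i) := fun i => (unitVal (b i) : Γ(X, O i)) • e i
    refine nonempty_iso_of_frames hcov n (fun i => (1 : Γ(X, O i))) (fun i => (he i).isUnit_smul (Units.isUnit _))
      (fun i => isFrame_one (O i)) fun i j W hi hj g hg => ?_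
    show AModX.resR hj (1 : Γ(X, O j)) = g * AModX.resR hi (1 : Γ(X, O i))
    rw [map_one, map_one, mul_one]
    have hbb : c i j _ (openHom hi) (openHom hj) =
        F.obj.map (openHom hj).op (b j) - F.obj.map (openHom hi).op (b i) := by
      refine (sect_exact hS _).1 ?_
      have e₁ : ∀ k (hk : W ≤ O k), S.f.hom.app (op (EtDesc.ofOpen W)) (F.obj.map (openHom hk).op (b k)) =
          S.X₂.obj.map (openHom hk).op (t k) - S.X₂.obj.map (toTop (EtDesc.ofOpen W)).op w := fun k hk => by
        rw [NatTrans.naturality_apply S.f.hom, hb k, map_sub, map_map,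
          map_eq_of_top S.X₂ (openHom hk ≫ toTop _) (toTop _)]
      rw [map_sub, e₁ j hj, e₁ i hi, sub_sub_sub_cancel_right]
      exact (ht i j _ (openHom hi) (openHom hj)).symm
    have hW : W ≤ O i ⊓ O j := le_inf hi hj
    rw [hc i j _ (openHom hi) (openHom hj) (openHom hW), eq_sub_iff_add_eq] at hbb
    have h1 : AModX.resR hW (a i j : Γ(X, O i ⊓ O j)) * AModX.resR hi (unitVal (b i) : Γ(X, O i)) =
        AModX.resR hj (unitVal (b j) : Γ(X, O j)) := by
      rw [← unitVal_unitSect (a i j), ← unitVal_map, ← unitVal_map, ← unitVal_map, ← Units.val_mul, ← unitVal_add]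
      exact congrArg (fun z : EtCoh.sect F (EtDesc.ofOpen W) => (unitVal z : Γ(X, W))) hbb
    have h2 := congrArg (AModX.res L hW) (ha i j)
    simp only [AModX.res_smul, AModX.res_res] at h2
    have h3 : AModX.res L hi (n i) = AModX.res L hj (n j) := by
      simp only [n, AModX.res_smul]
      rw [h2, ← h1, ← mul_smul, mul_comm]
    rw [← h3] at hg
    exact ((he i).isUnit_smul (Units.isUnit (unitVal (b i)))).coord_unique hi (by rw [one_smul]; exact hg)
  · intro hpic
    refine subsingleton_of_forall_eq 0 fun ξ => ?_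
    obtain ⟨β, rfl⟩ := EtMVLib.exists_eq_comp_extClass ξ
    obtain ⟨y, rfl⟩ := (Ext.mk₀_bijective _ _).2 β
    choose O hxO t ht using fun x : X => exists_local_lift hS rfl (secOf y) x
    have hcov : ∀ x : X, ∃ i, x ∈ O i := fun x => ⟨x, hxO x⟩
    let F := EtCoh.Gm X
    have hd : ∀ (i j : X) (W : X.Opens) (hi : W ≤ O i) (hj : W ≤ O j), ∃ b : EtCoh.sect F (EtDesc.ofOpen W),
        S.f.hom.app _ b = S.X₂.obj.map (openHom hi).op (t i) - S.X₂.obj.map (openHom hj).op (t j) :=
      fun i j W hi hj => (sect_exact hS _).2 _ (by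
        rw [map_sub, NatTrans.naturality_apply S.g.hom, NatTrans.naturality_apply S.g.hom, ht, ht, map_map, map_map,
          map_eq_of_top S.X₃ (openHom hj ≫ toTop _) (openHom hi ≫ toTop _), sub_self])
    choose d hd using hd
    obtain ⟨M, e, hM, he, hee⟩ := IntTh85.LineGlue.exists_line O hcov
      (fun i j W hi hj => (unitVal (d i j W hi hj) : Γ(X, W))) (fun i j W hi hj => Units.isUnit _)
      (fun i j W W' hi hj h => by
        rw [← unitVal_map h]
        refine congrArg (fun z : EtCoh.sect F (EtDesc.ofOpen W') => (unitVal z : Γ(X, W'))) ((sect_exact hS _).1 ?_)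
        rw [NatTrans.naturality_apply S.f.hom, hd, hd, map_sub, map_map, map_map]
        exact congrArg₂ (· - ·) (map_eq_of_open S.X₂ _ _ _) (map_eq_of_open S.X₂ _ _ _))
      (fun i j l W hi hj hl => by
        rw [← Units.val_mul, ← unitVal_add]
        refine congrArg (fun z : EtCoh.sect F (EtDesc.ofOpen W) => (unitVal z : Γ(X, W))) ((sect_exact hS _).1 ?_)
        rw [map_add, hd, hd, hd]
        abel)
    obtain ⟨φ⟩ := hpic M hM
    have hb : ∀ i, ∃ b : Γ(X, O i)ˣ, φ.hom.app (O i) (e i) = (show Γ(Coh.structureModule X, O i) from (b : Γ(X, O i))) := by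
      intro i
      let r : Γ(X, O i) := φ.hom.app (O i) (e i)
      obtain ⟨r', hr'⟩ := (he i).exists_coord le_rfl (φ.inv.app (O i) (show Γ(Coh.structureModule X, O i) from (1 : Γ(X, O i))))
      rw [AModX.res_self] at hr'
      have h2 : r' • φ.hom.app (O i) (e i) = (show Γ(Coh.structureModule X, O i) from (1 : Γ(X, O i))) := by
        rw [← Scheme.Modules.Hom.app_smul, ← hr']
        exact congrArg (fun m : Coh.structureModule X ⟶ Coh.structureModule X =>
          m.app (O i) (show Γ(Coh.structureModule X, O i) from (1 : Γ(X, O i)))) φ.inv_hom_id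
      have h3 : r' * r = 1 := h2
      exact ⟨⟨r, r', (mul_comm r r').trans h3, h3⟩, rfl⟩
    choose b hb using hb
    let w₀ : ∀ i, EtCoh.sect S.X₂ (EtDesc.ofOpen (O i)) := fun i => t i - S.f.hom.app _ (unitSect (b i))
    obtain ⟨w, hw⟩ := exists_glue O S.X₂ hcov w₀ fun i j T p q => by
      refine map_eq_of_inf p q _ _ _ ?_
      let hi : O i ⊓ O j ≤ O i := inf_le_left
      let hj : O i ⊓ O j ≤ O j := inf_le_right
      show S.X₂.obj.map (openHom hi).op (_ - _) = S.X₂.obj.map (openHom hj).op (_ - _)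
      rw [map_sub, map_sub, ← NatTrans.naturality_apply S.f.hom, ← NatTrans.naturality_apply S.f.hom,
        sub_eq_sub_iff_sub_eq_sub, ← hd i j _ hi hj, ← map_sub]
      refine congrArg _ (eq_sub_iff_add_eq.2 (eq_of_unitVal ?_))
      rw [unitVal_add, Units.val_mul, unitVal_map, unitVal_map, unitVal_unitSect, unitVal_unitSect]
      have h1 := congrArg (fun z => φ.hom.app (O i ⊓ O j) z) (hee i j _ hi hj)
      simp only [Scheme.Modules.Hom.app_smul, AModX.app_res, hb] at h1
      exact h1.symm
    refine (class_eq_zero_iff hS y).2 ⟨w, top_ext O S.X₃ hcov _ _ fun i => ?_⟩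
    rw [← NatTrans.naturality_apply S.g.hom, hw]
    show S.g.hom.app _ (t i - _) = _
    rw [map_sub, hker, sub_zero, ht]

end Groth.Agent.BrauerXPic
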